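import Groth.Agent.CMRegLib.General
import Groth.Agent.CMRegLib.Bound
import Groth.Agent.PointsRegLib.Geom
import Groth.Agent.AssLib.Noetherian
import Groth.Agent.BCLib.Gamma
import Mathlib.LinearAlgebra.Eigenspace.Triangularizable

/-!
# A pencil of hyperplanes avoiding associated points

For a coherent module on projective space without closed associated points, some pencil of linear forms
consists of nonzerodivisors only; comparing two of them shows that `h⁰` drops under the twist by `-1`.
-/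

set_option autoImplicit false
set_option linter.style.haveILetI false
set_option backward.isDefEq.respectTransparency false

universe u

open CategoryTheory CategoryTheory.Limits AlgebraicGeometry TopologicalSpace Opposite
open Groth.Agent.DCohLib Groth.Agent.PullbackMod Groth.Agent.CMRegLib

noncomputable section

namespace Groth.Agent.LinPencilLib

variable {k : Type u} [Field k] {n : ℕ}

local notation "PS" => CohB1.ProjSpace n k
local notation "O(" d ")" => Twist.twistProjSpace n k d

/-- None of the associated points is closed. -/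
def NoClosedAss (F : (PS).Modules) : Prop :=
  ∀ x : PS, Curv2.IsAssPoint F x → ¬ IsClosed ({x} : Set PS)

theorem constΓ_eq_cst (r : k) : constΓ n r = PointsRegLib.cst (n := n) r := by
  unfold constΓ CohB1.ProjSpace.toSpec Proj.toSpecZero Proj.basicOpenToSpec PointsRegLib.cst
  simp only [Scheme.Hom.comp_appTop, Category.assoc, CommRingCat.comp_apply, Scheme.Opens.toSpecΓ_appTop]
  have nat : ∀ {R S : CommRingCat.{u}} (f : R ⟶ S) (x : R),
      (Spec.map f).appTop ((Scheme.ΓSpecIso R).inv x) = (Scheme.ΓSpecIso S).inv (f x) := fun f x =>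
    (ConcreteCategory.congr_hom (Scheme.ΓSpecIso_inv_naturality f) x).symm
  rw [nat, nat, nat, Iso.inv_hom_id_apply]
  simp only [Scheme.isoOfEq_inv, Scheme.homOfLE_appTop, Scheme.Opens.topIso_inv, RingHom.comp_apply, CommRingCat.hom_ofHom]
  have key : ∀ z : Γ(Proj (CohB1.polyGrading n k), ⊤), (Proj (CohB1.polyGrading n k)).topIso.inv.appTop
      ((⊤ : (Proj (CohB1.polyGrading n k)).Opens).ι.appTop z) = z := fun z => by
    have h := congrArg (fun f => Scheme.Hom.appTop f) (Scheme.toIso_inv_ι (Proj (CohB1.polyGrading n k)))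
    simp only [Scheme.Hom.comp_appTop, Scheme.Hom.id_appTop] at h
    exact ConcreteCategory.congr_hom h z
  refine Eq.trans ?_ (key _)
  congr 1

theorem single_formsIn {i v : Fin (n + 1)} (p : Ideal Γ(PS, AmpleEmb.stdOpen n k i)) (r : k)
    (h : (Pi.single v (1 : k) : Fin (n + 1) → k) - r • Pi.single i 1 ∈ formsIn p) :
    PointsRegLib.ratio i v - PointsRegLib.cstOn _ r ∈ p := by
  have hl : ∀ w : Fin (n + 1), linRatio (Pi.single w (1 : k)) i = PointsRegLib.ratio i w := fun w => by
    rw [linRatio, Finset.sum_eq_single w (fun b _ hb => by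
      rw [Pi.single_eq_of_ne hb, constΓ, map_zero, map_zero, map_zero, zero_mul]) (by simp)]
    rw [Pi.single_eq_same, constΓ, map_one, map_one, map_one, one_mul]
    rfl
  have h' : linRatio ((Pi.single v (1 : k)) - r • Pi.single i 1) i ∈ p := h
  rw [sub_eq_add_neg, linRatio_add, ← neg_one_smul k, smul_smul, linRatio_smul, hl, hl, PointsRegLib.ratio_self,
    mul_one, constΓ_eq_cst] at h'
  convert h' using 1
  rw [show ((-1 : k) * r) = -r by ring, sub_eq_add_neg, ← map_neg]
  rfl

/-- A prime containing a hyperplane of forms is maximal. -/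
theorem isMaximal_of_hyperplane {i : Fin (n + 1)} (p : Ideal Γ(PS, AmpleEmb.stdOpen n k i)) (hp : p.IsPrime)
    (h : ∀ c₀ : Fin (n + 1) → k, c₀ ∉ formsIn p → formsIn p ⊔ Submodule.span k {c₀} = ⊤) : p.IsMaximal := by
  have hi : (Pi.single i (1 : k) : Fin (n + 1) → k) ∉ formsIn p := fun h' =>
    hp.ne_top (p.eq_top_of_isUnit_mem h' (linRatio_single i))
  have htop := h _ hi
  let q := Ideal.Quotient.mk p
  let ψ : k →+* Γ(PS, AmpleEmb.stdOpen n k i) ⧸ p := q.comp (PointsRegLib.cstOn _)
  have hψ : Function.Surjective ψ := fun z => by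
    obtain ⟨s, rfl⟩ := Ideal.Quotient.mk_surjective z
    refine PointsRegLib.adjoin_ratio i s (ψ.range.comap q) (fun c => ⟨c, rfl⟩) (fun v => ?_)
    have hv : (Pi.single v (1 : k) : Fin (n + 1) → k) ∈ formsIn p ⊔ Submodule.span k {Pi.single i (1 : k)} :=
      htop.ge Submodule.mem_top
    obtain ⟨a, ha, b, hb, e⟩ := Submodule.mem_sup.1 hv
    obtain ⟨r, rfl⟩ := Submodule.mem_span_singleton.1 hb
    refine ⟨r, (Ideal.Quotient.eq.2 (single_formsIn p r ?_)).symm⟩
    rw [← e, add_sub_cancel_right]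
    exact ha
  exact Ideal.Quotient.maximal_of_isField p
    (((RingEquiv.ofBijective ψ ⟨ψ.injective, hψ⟩).symm.toMulEquiv.isField (Field.toIsField k)))

theorem isClosed_singleton_of_maximal {i : Fin (n + 1)} {q : PrimeSpectrum Γ(PS, AmpleEmb.stdOpen n k i)}
    (hq : q.asIdeal.IsMaximal) :
    IsClosed ({AssLib.pt (AmpleEmb.isAffineOpen_stdOpen n k i) q} : Set PS) := by
  haveI : JacobsonSpace PS := LocallyOfFiniteType.jacobsonSpace (CohB1.ProjSpace.toSpec n k)
  refine isClosed_singleton_of_isLocallyClosed_singleton ?_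
  let hU := AmpleEmb.isAffineOpen_stdOpen n k i
  have h1 : IsClosed ({q} : Set (PrimeSpectrum Γ(PS, AmpleEmb.stdOpen n k i))) :=
    (PrimeSpectrum.isClosed_singleton_iff_isMaximal q).2 hq
  have h2 := hU.fromSpec.isOpenEmbedding.isInducing
  have h3 : IsLocallyClosed (hU.fromSpec '' ({q} : Set (PrimeSpectrum Γ(PS, AmpleEmb.stdOpen n k i)))) :=
    h1.isLocallyClosed.image h2 (hU.fromSpec.isOpenEmbedding.isOpen_range.isLocallyClosed)
  rwa [Set.image_singleton] at h3

theorem formsIn_sup_ne_top {F : (PS).Modules} (hF : Coh.IsCoh F) (hass : NoClosedAss F) {i : Fin (n + 1)}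
    {p : Ideal Γ(PS, AmpleEmb.stdOpen n k i)}
    (hp : p ∈ associatedPrimes Γ(PS, AmpleEmb.stdOpen n k i) Γ(F, AmpleEmb.stdOpen n k i))
    {c₀ : Fin (n + 1) → k} (hc₀ : c₀ ∉ formsIn p) : formsIn p ⊔ Submodule.span k {c₀} ≠ ⊤ := by
  intro htop
  haveI := hF.1
  haveI := isNoetherian_projSpace (k := k) (n := n)
  have hU := AmpleEmb.isAffineOpen_stdOpen n k i
  haveI := QCohLib.isNoetherianRing_section hU
  let q : PrimeSpectrum Γ(PS, AmpleEmb.stdOpen n k i) := ⟨p, hp.isPrime⟩
  have hmax : p.IsMaximal := by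
    refine isMaximal_of_hyperplane p hp.isPrime fun d hd => ?_
    have h1 : IsCoatom (formsIn p) := by
      have hc : (formsIn p) ⋖ (formsIn p ⊔ Submodule.span k {c₀}) :=
        Submodule.covBy_span_singleton_sup hc₀ |> fun h => by rwa [sup_comm] at h
      rwa [htop, covBy_top_iff] at hc
    exact h1.2 _ (lt_of_le_of_ne le_sup_left fun e =>
      hd (e.ge (Submodule.mem_sup_right (Submodule.mem_span_singleton_self d))))
  refine hass _ ((AssLib.isAssPoint_iff hU (AssLib.pt_mem hU q)).2 ?_) (isClosed_singleton_of_maximal (q := q) hmax)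
  show (hU.primeIdealOf ⟨AssLib.pt hU q, AssLib.pt_mem hU q⟩).asIdeal ∈ _
  rw [AssLib.primeIdealOf_pt]
  exact hp

/-- A pencil all of whose members are nonzerodivisors on `F`. -/
theorem exists_pencil [Infinite k] {F : (PS).Modules} (hF : Coh.IsCoh F) (hass : NoClosedAss F) :
    ∃ c₀ c₁ : Fin (n + 1) → k, Mono (linMap c₀ F) ∧ ∀ r : k, Mono (linMap (c₁ - r • c₀) F) := by
  haveI := hF.1
  haveI := isNoetherian_projSpace (k := k) (n := n)
  haveI : ∀ i, IsNoetherianRing Γ(PS, AmpleEmb.stdOpen n k i) := fun i =>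
    IsLocallyNoetherian.component_noetherian ⟨_, AmpleEmb.isAffineOpen_stdOpen n k i⟩
  haveI : ∀ i, Module.Finite Γ(PS, AmpleEmb.stdOpen n k i) Γ(F, AmpleEmb.stdOpen n k i) := fun i =>
    QCohLib.finite_sections_of_isCoh hF (AmpleEmb.isAffineOpen_stdOpen n k i)
  let P := Σ i : Fin (n + 1), ↥(associatedPrimes Γ(PS, AmpleEmb.stdOpen n k i) Γ(F, AmpleEmb.stdOpen n k i))
  haveI : ∀ i : Fin (n + 1), Finite ↥(associatedPrimes Γ(PS, AmpleEmb.stdOpen n k i) Γ(F, AmpleEmb.stdOpen n k i)) :=
    fun i => (associatedPrimes.finite _ _).to_subtype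
  obtain ⟨c₀, hc₀⟩ := Submodule.exists_forall_notMem_of_forall_ne_top (fun a : P => formsIn a.2.1)
    fun a => formsIn_ne_top a.2.2.isPrime.ne_top
  obtain ⟨c₁, hc₁⟩ := Submodule.exists_forall_notMem_of_forall_ne_top
    (fun a : P => formsIn a.2.1 ⊔ Submodule.span k {c₀})
    fun a => formsIn_sup_ne_top hF hass a.2.2 (hc₀ a)
  have key : ∀ c : Fin (n + 1) → k, (∀ a : P, c ∉ formsIn a.2.1) → Mono (linMap c F) := fun c hc => by
    refine mono_linMap_of_regular fun i z hz => ?_
    by_contra hne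
    obtain ⟨p, hp, hcp⟩ := Set.mem_iUnion₂.1 ((biUnion_associatedPrimes_eq_zero_divisors
      Γ(PS, AmpleEmb.stdOpen n k i) Γ(F, AmpleEmb.stdOpen n k i)).ge ⟨z, hne, hz⟩)
    exact hc ⟨i, p, hp⟩ hcp
  refine ⟨c₀, c₁, key c₀ hc₀, fun r => key _ fun a ha => hc₁ a ?_⟩
  rw [show c₁ = (c₁ - r • c₀) + r • c₀ by abel]
  exact Submodule.add_mem_sup ha (Submodule.smul_mem _ r (Submodule.mem_span_singleton_self c₀))

theorem linTw_add (c d : Fin (n + 1) → k) (F : (PS).Modules) :
    linTw (c + d) F = linTw c F + linTw d F := by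
  refine hom_ext_stalk fun x => LinearMap.ext fun z => ?_
  obtain ⟨i, hx⟩ := exists_mem (k := k) (n := n) x
  rw [DevLib.stalkLin_add, LinearMap.add_apply, stalkLin_linTw _ F hx, stalkLin_linTw _ F hx,
    stalkLin_linTw _ F hx, linRatio_add, map_add, add_smul]

theorem linMap_add (c d : Fin (n + 1) → k) (F : (PS).Modules) :
    linMap (c + d) F = linMap c F + linMap d F := by
  rw [linMap, linMap, linMap, linTw_add, Preadditive.add_comp]

theorem linMap_smul (r : k) (c : Fin (n + 1) → k) (F : (PS).Modules) :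
    linMap (r • c) F = linMap c F ≫ Formal.smulMod k F r := by
  refine hom_ext_stalk fun x => LinearMap.ext fun z => ?_
  obtain ⟨i, hx⟩ := exists_mem (k := k) (n := n) x
  rw [stalkLin_comp, LinearMap.comp_apply, Formal.smulMod, BCLib.stalkLin_smulModΓ, linMap, linMap,
    stalkLin_comp, stalkLin_comp, LinearMap.comp_apply, LinearMap.comp_apply, stalkLin_linTw _ F hx,
    stalkLin_linTw _ F hx, linRatio_smul, map_mul, TopCat.Presheaf.germ_res_apply, mul_smul, map_smul]
  rfl

theorem hMap_add {M N : (PS).Modules} (f g : M ⟶ N) :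
    CurveLib.hMap (k := k) (f + g) 0 = CurveLib.hMap f 0 + CurveLib.hMap g 0 := by
  refine LinearMap.ext fun z => ?_
  obtain ⟨s, rfl⟩ := (RpushLib.h0Γ M).surjective z
  refine (BCLib.h0Γ_natural (f + g) s).symm.trans ?_
  refine (map_add (RpushLib.h0Γ N) (f.app ⊤ s) (g.app ⊤ s)).trans ?_
  exact congrArg₂ (· + ·) (BCLib.h0Γ_natural f s) (BCLib.h0Γ_natural g s)

theorem hMap_linMap_smul (r : k) (c : Fin (n + 1) → k) (F : (PS).Modules) :
    CurveLib.hMap (k := k) (linMap (r • c) F) 0 = r • CurveLib.hMap (linMap c F) 0 := by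
  refine LinearMap.ext fun z => ?_
  rw [linMap_smul]
  show Sheaf.H.map ((QCohLib.toAbF PS).map (linMap c F ≫ Formal.smulMod k F r)) 0 z = _
  rw [Functor.map_comp, Sheaf.H.map_comp_apply]
  rfl

theorem injective_hMap {X : Scheme.{u}} [X.Over (Spec (CommRingCat.of k))] {A B : X.Modules} (f : A ⟶ B) [Mono f] :
    Function.Injective (CurveLib.hMap (k := k) f 0) :=
  fun _ _ h => CurveLib.hMap_f_zero_injective (k := k) (S := ShortComplex.mk f (cokernel.π f) (cokernel.condition f))
    (shortExact_coker f) h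

/-- `h⁰` drops strictly under the twist by `-1`. -/
theorem finrank_twist_lt [IsAlgClosed k] {F : (PS).Modules} (hF : Coh.IsCoh F) (hass : NoClosedAss F)
    (h0 : 1 ≤ Module.finrank k (Coh.HH PS F 0)) :
    Module.finrank k (Coh.HH PS (CohB1.tensorMod F (O(-1))) 0) + 1 ≤ Module.finrank k (Coh.HH PS F 0) := by
  haveI : IsProper (PS ↘ Spec (CommRingCat.of k)) := CompleteCurve.isProper_toSpec n k
  haveI := EulerIneqLib.finite_HH (k := k) (X := PS) hF 0
  haveI := EulerIneqLib.finite_HH (k := k) (X := PS) (isCoh_twistBy hF (-1)) 0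
  obtain ⟨c₀, c₁, h₀, h₁⟩ := exists_pencil hF hass
  let α : (Fin (n + 1) → k) → (Coh.HH PS (CohB1.tensorMod F (O(-1))) 0 →ₗ[k] Coh.HH PS F 0) :=
    fun c => CurveLib.hMap (linMap c F) 0
  have hinj : ∀ c, Mono (linMap c F) → Function.Injective (α c) := fun c hc => by
    haveI := hc
    exact injective_hMap (linMap c F)
  have hle := LinearMap.finrank_le_finrank_of_injective (hinj c₀ h₀)
  by_contra hlt
  have heq : Module.finrank k (Coh.HH PS (CohB1.tensorMod F (O(-1))) 0) = Module.finrank k (Coh.HH PS F 0) := by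
    omega
  let e := LinearEquiv.ofBijective (α c₀) ⟨hinj c₀ h₀,
    (LinearMap.injective_iff_surjective_of_finrank_eq_finrank heq).1 (hinj c₀ h₀)⟩
  haveI : Nontrivial (Coh.HH PS (CohB1.tensorMod F (O(-1))) 0) := Module.nontrivial_of_finrank_pos (R := k) (by omega)
  obtain ⟨μ, hμ⟩ := Module.End.exists_eigenvalue (e.symm.toLinearMap ∘ₗ α c₁)
  obtain ⟨v, hv, hv0⟩ := hμ.exists_hasEigenvector
  have hv' : α c₁ v = μ • α c₀ v := by
    have h := congrArg e (Module.End.mem_eigenspace_iff.1 hv)
    rw [map_smul, LinearMap.comp_apply, LinearEquiv.coe_coe, LinearEquiv.apply_symm_apply] at h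
    exact h
  refine hv0 ((injective_iff_map_eq_zero _).1 (hinj _ (h₁ μ)) v ?_)
  have hs : α (c₁ - μ • c₀) = α c₁ + (-μ) • α c₀ := by
    show CurveLib.hMap _ 0 = CurveLib.hMap _ 0 + _
    rw [sub_eq_add_neg, ← neg_smul, linMap_add, hMap_add, hMap_linMap_smul]
  rw [hs, LinearMap.add_apply, LinearMap.smul_apply, hv', ← add_smul, add_neg_cancel, zero_smul]

theorem nonempty_stalkEquiv (F : (PS).Modules) (x : PS) (d : ℤ) :
    Nonempty (((projData k n F).F d).presheaf.stalk x ≃ₗ[(PS).presheaf.stalk x] F.presheaf.stalk x) := by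
  obtain ⟨i, hx⟩ := exists_mem (k := k) (n := n) x
  have step : ∀ e : ℤ, Nonempty (((projData k n F).F (e - 1)).presheaf.stalk x ≃ₗ[(PS).presheaf.stalk x]
      ((projData k n F).F e).presheaf.stalk x) := fun e =>
    ⟨LinearEquiv.ofBijective _ ((projData k n F).bij i e x hx)⟩
  induction d using Int.induction_on with
  | zero => exact ⟨LinearEquiv.ofBijective _ (bijective_zeroTwist F x)⟩
  | succ m ih =>
    obtain ⟨a⟩ := step ((m : ℤ) + 1)
    rw [add_sub_cancel_right] at a
    exact ih.map fun b => a.symm.trans b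
  | pred m ih => exact (step (-(m : ℤ))).elim fun a => ih.map fun b => a.trans b

theorem noClosedAss_twist {F : (PS).Modules} (hass : NoClosedAss F) (d : ℤ) :
    NoClosedAss (CohB1.tensorMod F (O(d))) := fun x hx => by
  obtain ⟨e⟩ := nonempty_stalkEquiv F x d
  refine hass x ?_
  show IsLocalRing.maximalIdeal _ ∈ associatedPrimes ((PS).presheaf.stalk x) (F.presheaf.stalk x)
  rw [← LinearEquiv.AssociatedPrimes.eq e]
  exact hx

theorem finrank_twist_le [IsAlgClosed k] {F : (PS).Modules} (hF : Coh.IsCoh F) (hass : NoClosedAss F) :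
    ∀ m : ℕ, Module.finrank k (Coh.HH PS (CohB1.tensorMod F (O(-(m : ℤ)))) 0) ≤
      Module.finrank k (Coh.HH PS F 0) - m := by
  haveI : IsProper (PS ↘ Spec (CommRingCat.of k)) := CompleteCurve.isProper_toSpec n k
  intro m
  induction m with
  | zero =>
    simp only [Nat.sub_zero]
    exact (CurveLib.hMap_bijective_finrank (zeroTwistIso F) 0).le
  | succ m ih =>
    have he := CurveLib.hMap_bijective_finrank (k := k) (asIso (mulMap F (show -(m : ℤ) + -1 = -((m + 1 : ℕ) : ℤ) by omega))) 0
    haveI := EulerIneqLib.finite_HH (k := k) (X := PS) (isCoh_twistBy (isCoh_twistBy hF (-(m : ℤ))) (-1)) 0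
    have key : Module.finrank k
        (Coh.HH PS (CohB1.tensorMod (CohB1.tensorMod F (O(-(m : ℤ)))) (O(-1))) 0) ≤
        Module.finrank k (Coh.HH PS F 0) - (m + 1) := by
      by_cases hpos : 1 ≤ Module.finrank k (Coh.HH PS (CohB1.tensorMod F (O(-(m : ℤ)))) 0)
      · have h := finrank_twist_lt (isCoh_twistBy hF _) (noClosedAss_twist hass _) hpos
        omega
      · obtain ⟨c₀, -, h₀, -⟩ := exists_pencil (isCoh_twistBy hF (-(m : ℤ))) (noClosedAss_twist hass _)
        haveI := h₀
        haveI := EulerIneqLib.finite_HH (k := k) (X := PS) (isCoh_twistBy hF (-(m : ℤ))) 0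
        have h : Module.finrank k
            (Coh.HH PS (CohB1.tensorMod (CohB1.tensorMod F (O(-(m : ℤ)))) (O(-1))) 0) ≤
            Module.finrank k (Coh.HH PS (CohB1.tensorMod F (O(-(m : ℤ)))) 0) :=
          LinearMap.finrank_le_finrank_of_injective
            (injective_hMap (k := k) (linMap c₀ (CohB1.tensorMod F (O(-(m : ℤ))))))
        omega
    exact he.symm.le.trans key

end Groth.Agent.LinPencilLib
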